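import Cfsg.Agent.H510.BD.Dl
import Cfsg.Agent.H510.CS.Herm

/-!
# Derived lengths of the Sylow `p`-subgroups of the unitary groups, weight `< p ^ 2` (helper510, for S4932)
-/

set_option autoImplicit false
set_option linter.unusedSectionVars false
set_option linter.unusedVariables false

namespace Cfsg.Agent.H510.BD

open Cfsg Matrix Module Cfsg.Agent.H246.Dl Cfsg.Agent.H585.BD
open Cfsg.Agent.H91.U (HForm)
open Cfsg.Agent.LieClassical.HermBasic (conj conj_apply pow_q_pow_q)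

section form

variable {F : Type*} [Field F] {κ : Type*} [Fintype κ]

/-- the form `Σ σ(u (s i)) v i` -/
noncomputable def sB (σ : F →+* F) (s : κ → κ) : (κ → F) →ₛₗ[σ] (κ → F) →ₗ[F] F :=
  LinearMap.mk₂'ₛₗ σ (RingHom.id F) (fun u v => ∑ i, σ (u (s i)) * v i)
    (fun u u' v => by simp only [Pi.add_apply, map_add, add_mul, Finset.sum_add_distrib])
    (fun c u v => by simp only [Pi.smul_apply, smul_eq_mul, map_mul, mul_assoc, Finset.mul_sum])
    (fun u v v' => by simp only [Pi.add_apply, mul_add, Finset.sum_add_distrib])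
    (fun c u v => by simp only [Pi.smul_apply, smul_eq_mul, RingHom.id_apply, mul_left_comm, Finset.mul_sum])

theorem sB_apply (σ : F →+* F) (s : κ → κ) (u v : κ → F) : sB σ s u v = ∑ i, σ (u (s i)) * v i := rfl

theorem hform_sB {σ : F →+* F} (hσ : ∀ a, σ (σ a) = a) (hne : σ ≠ RingHom.id F) {s : κ → κ} (hs : ∀ i, s (s i) = i) :
    HForm (sB σ s) := by
  classical
  have hswap : ∀ u v, σ (sB σ s u v) = sB σ s v u := by
    intro u v
    rw [sB_apply, sB_apply, map_sum]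
    let e : κ ≃ κ := ⟨s, s, hs, hs⟩
    rw [← e.sum_comp]
    refine Finset.sum_congr rfl fun i _ => ?_
    change σ (σ (u (s (s i))) * v (s i)) = _
    rw [map_mul, hσ, hs, mul_comm]
  have hleft : ∀ u, (∀ v, sB σ s u v = 0) → u = 0 := by
    intro u hu
    ext i
    have h1 := hu (Pi.single (s i) 1)
    rw [sB_apply, Finset.sum_eq_single (s i) (fun j _ hj => by rw [Pi.single_eq_of_ne hj, mul_zero])
      (fun h => absurd (Finset.mem_univ _) h), Pi.single_eq_same, mul_one, hs, map_eq_zero] at h1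
    exact h1
  refine ⟨⟨hleft, fun v hv => hleft v fun u => ?_⟩, ⟨hswap⟩, hσ, hne⟩
  rw [← hswap, hv, map_zero]

end form

section iso

variable {F V : Type*} [Field F] [AddCommGroup V] [Module F V] {σ : F →+* F}

/-- the isometry group -/
def IsoG (B : V →ₛₗ[σ] V →ₗ[F] F) : Subgroup (V ≃ₗ[F] V) where
  carrier := {g | ∀ x y, B (g x) (g y) = B x y}
  mul_mem' := fun {g h} hg hh => fun x y => by
    rw [LinearEquiv.mul_apply, LinearEquiv.mul_apply, hg, hh]
  one_mem' := fun _ _ => rfl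
  inv_mem' := fun {g} hg => fun x y => by
    have h1 := hg (g⁻¹ x) (g⁻¹ y)
    rw [← LinearEquiv.mul_apply, ← LinearEquiv.mul_apply, mul_inv_cancel] at h1
    exact h1.symm

theorem dlLe_gu_of {p : ℕ} [hp : Fact p.Prime] [Fintype F] [FiniteDimensional F V] {B : V →ₛₗ[σ] V →ₗ[F] F}
    (hB : HForm B) {q : ℕ} (hF : Fintype.card F = q ^ 2) (h : DlLe p 2 (IsoG B)) :
    DlLe p 2 (GU (finrank F V) F q) := by
  obtain ⟨φ, hφ⟩ := Cfsg.Agent.H450.UF.exists_model hF hB
  let f : GU (finrank F V) F q →* IsoG B :=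
    { toFun := fun A => ⟨CS.glEquiv φ A.1, fun x y => by
        rw [hφ, hφ, CS.glEquiv_apply, CS.glEquiv_apply]
        exact A.2 _ _⟩
      map_one' := Subtype.ext (LinearEquiv.ext fun v => φ.injective (by
        rw [CS.glEquiv_apply]
        exact one_mulVec _))
      map_mul' := fun A B => Subtype.ext (LinearEquiv.ext fun v => φ.injective (by
        change φ (CS.glEquiv φ (A.1 * B.1) v) = φ (CS.glEquiv φ A.1 (CS.glEquiv φ B.1 v))
        rw [CS.glEquiv_apply, CS.glEquiv_apply, CS.glEquiv_apply, mulVec_mulVec]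
        rfl)) }
  exact dlLe_inj f (fun A B hAB => Subtype.ext ((CS.glEquiv φ).injective (congrArg Subtype.val hAB))) h

end iso

section gl

variable {F : Type*} [Field F]

/-- `GL_m → GU_{2m + ε}` -/
def hypU (m ε : ℕ) (σ : F →+* F) : GL (Fin m) F →* Matrix ((Fin m ⊕ Fin m) ⊕ Fin ε) ((Fin m ⊕ Fin m) ⊕ Fin ε) F where
  toFun A := fromBlocks (fromBlocks A.1 0 0 ((A⁻¹).1ᵀ.map σ)) 0 0 1
  map_one' := by
    rw [inv_one]
    change fromBlocks (fromBlocks (1 : Matrix (Fin m) (Fin m) F) 0 0 ((1 : Matrix (Fin m) (Fin m) F)ᵀ.map σ)) 0 0 1 = 1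
    rw [transpose_one, Matrix.map_one σ (map_zero σ) (map_one σ), fromBlocks_one, fromBlocks_one]
  map_mul' A B := by
    rw [_root_.mul_inv_rev]
    change fromBlocks (fromBlocks (A.1 * B.1) 0 0 (((B⁻¹).1 * (A⁻¹).1)ᵀ.map σ)) 0 0 1 =
      fromBlocks (fromBlocks A.1 0 0 ((A⁻¹).1ᵀ.map σ)) 0 0 1 * fromBlocks (fromBlocks B.1 0 0 ((B⁻¹).1ᵀ.map σ)) 0 0 1
    rw [fromBlocks_multiply, fromBlocks_multiply, transpose_mul, Matrix.map_mul]
    simp

theorem hypU_injective (m ε : ℕ) (σ : F →+* F) : Function.Injective (hypU m ε σ) := fun _ _ h =>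
  Units.ext (fromBlocks_inj.1 (fromBlocks_inj.1 h).1).1

/-- the involution of the index set -/
def swp (m ε : ℕ) : (Fin m ⊕ Fin m) ⊕ Fin ε → (Fin m ⊕ Fin m) ⊕ Fin ε := Sum.map Sum.swap id

theorem swp_swp (m ε : ℕ) (i : (Fin m ⊕ Fin m) ⊕ Fin ε) : swp m ε (swp m ε i) = i := by
  rcases i with (i | i) | i <;> rfl

theorem dot_of {m : ℕ} {A C : Matrix (Fin m) (Fin m) F} (h : Cᵀ * A = 1) (x y : Fin m → F) :
    (C *ᵥ x) ⬝ᵥ (A *ᵥ y) = x ⬝ᵥ y := by
  rw [dotProduct_mulVec, ← vecMul_transpose, vecMul_vecMul, h, vecMul_one]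

theorem hypU_mulVec (m ε : ℕ) (σ : F →+* F) (A : GL (Fin m) F) (v : (Fin m ⊕ Fin m) ⊕ Fin ε → F) :
    hypU m ε σ A *ᵥ v = Sum.elim (Sum.elim (A.1 *ᵥ fun i => v (.inl (.inl i)))
      (((A⁻¹).1ᵀ.map σ) *ᵥ fun i => v (.inl (.inr i)))) (fun i => v (.inr i)) := by
  change fromBlocks (fromBlocks A.1 0 0 ((A⁻¹).1ᵀ.map σ)) 0 0 1 *ᵥ v = _
  rw [fromBlocks_mulVec, fromBlocks_mulVec]
  simp only [zero_mulVec, add_zero, zero_add, one_mulVec]
  rfl

theorem sB_split (m ε : ℕ) (σ : F →+* F) (u v : (Fin m ⊕ Fin m) ⊕ Fin ε → F) :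
    sB σ (swp m ε) u v = (σ ∘ fun i => u (.inl (.inr i))) ⬝ᵥ (fun i => v (.inl (.inl i))) +
      (σ ∘ fun i => u (.inl (.inl i))) ⬝ᵥ (fun i => v (.inl (.inr i))) +
      ∑ i, σ (u (.inr i)) * v (.inr i) := by
  rw [sB_apply, Fintype.sum_sum_type, Fintype.sum_sum_type]
  rfl

theorem sB_hypU (m ε : ℕ) {σ : F →+* F} (hσ : ∀ a, σ (σ a) = a) (A : GL (Fin m) F)
    (u v : (Fin m ⊕ Fin m) ⊕ Fin ε → F) :
    sB σ (swp m ε) (hypU m ε σ A *ᵥ u) (hypU m ε σ A *ᵥ v) = sB σ (swp m ε) u v := by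
  have hmap : ∀ (M : Matrix (Fin m) (Fin m) F) (w : Fin m → F), (σ ∘ (M *ᵥ w)) = (M.map σ) *ᵥ (σ ∘ w) := by
    intro M w
    ext i
    exact RingHom.map_mulVec σ M w i
  have hmm : ((A⁻¹).1ᵀ.map σ).map σ = (A⁻¹).1ᵀ := by
    ext i j
    simp only [Matrix.map_apply]
    exact hσ _
  rw [hypU_mulVec, hypU_mulVec, sB_split, sB_split]
  congr 1
  congr 1
  · change (σ ∘ (((A⁻¹).1ᵀ.map σ) *ᵥ fun i => u (.inl (.inr i)))) ⬝ᵥ (A.1 *ᵥ fun i => v (.inl (.inl i))) = _
    rw [hmap, hmm]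
    exact dot_of (by rw [transpose_transpose, inv_mul']) _ _
  · change (σ ∘ (A.1 *ᵥ fun i => u (.inl (.inl i)))) ⬝ᵥ (((A⁻¹).1ᵀ.map σ) *ᵥ fun i => v (.inl (.inr i))) = _
    rw [hmap]
    refine dot_of ?_ _ _
    rw [← transpose_map, ← Matrix.map_mul, ← transpose_mul, inv_mul', transpose_one,
      Matrix.map_one σ (map_zero σ) (map_one σ)]

/-- matrices as linear automorphisms -/
noncomputable def linOf {κ X : Type*} [Fintype κ] [DecidableEq κ] [Group X] (θ : X →* Matrix κ κ F) :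
    X →* ((κ → F) ≃ₗ[F] (κ → F)) :=
  (LinearMap.GeneralLinearGroup.generalLinearEquiv F (κ → F)).toMonoidHom.comp
    ((Matrix.GeneralLinearGroup.toLin (n := κ) (R := F)).toMonoidHom.comp θ.toHomUnits)

theorem linOf_apply {κ X : Type*} [Fintype κ] [DecidableEq κ] [Group X] (θ : X →* Matrix κ κ F) (x : X) (v : κ → F) :
    linOf θ x v = θ x *ᵥ v := rfl

/-- into the isometry group -/
noncomputable def thU (m ε : ℕ) {σ : F →+* F} (hσ : ∀ a, σ (σ a) = a) : GL (Fin m) F →* IsoG (sB σ (swp m ε)) where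
  toFun A := ⟨linOf (hypU m ε σ) A, fun x y => by
    rw [linOf_apply, linOf_apply]
    exact sB_hypU m ε hσ A x y⟩
  map_one' := Subtype.ext (map_one (linOf (hypU m ε σ)))
  map_mul' A B := Subtype.ext (map_mul (linOf (hypU m ε σ)) A B)

theorem thU_injective (m ε : ℕ) {σ : F →+* F} (hσ : ∀ a, σ (σ a) = a) : Function.Injective (thU m ε hσ) := by
  intro A B h
  apply hypU_injective m ε σ
  apply Matrix.toLin'.injective
  apply LinearMap.ext
  intro v
  exact LinearEquiv.congr_fun (congrArg Subtype.val h) v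

end gl

section main

variable {p : ℕ} [hp : Fact p.Prime] {F : Type*} [Field F] [Fintype F] {q : ℕ}

theorem conj_ne (hF : Fintype.card F = q ^ 2) : ((conj hF : F ≃+* F) : F →+* F) ≠ RingHom.id F := by
  intro h
  obtain ⟨x, hx⟩ := LieClassical.HermBasic.exists_not_fixed hF
  exact hx (RingHom.congr_fun h x)

theorem card_isoG {V : Type*} [AddCommGroup V] [Module F V] [FiniteDimensional F V] {σ : F →+* F}
    {B : V →ₛₗ[σ] V →ₗ[F] F} (hB : HForm B) (hF : Fintype.card F = q ^ 2) :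
    Nat.card (IsoG B) = Nat.card (GU (finrank F V) F q) := CS.card_hform hB hF

/-- `|GU_n(q)|`, split -/
theorem gu_split (q n : ℕ) : ∏ i ∈ Finset.range n, (if Even i then q ^ (i + 1) + 1 else q ^ (i + 1) - 1) =
    (∏ i ∈ Finset.range (n / 2), ((q ^ 2) ^ (i + 1) - 1)) *
      ∏ i ∈ Finset.range n, (if Even i then q ^ (i + 1) + 1 else 1) := by
  induction n with
  | zero => simp
  | succ n ih =>
    rw [Finset.prod_range_succ, ih, Finset.prod_range_succ (fun i => if Even i then q ^ (i + 1) + 1 else 1)]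
    rcases Nat.even_or_odd n with h | h
    · have h1 : (n + 1) / 2 = n / 2 := by
        obtain ⟨k, hk⟩ := h
        omega
      rw [h1, if_pos h, if_pos h, mul_assoc]
    · have h1 : (n + 1) / 2 = n / 2 + 1 := by
        obtain ⟨k, hk⟩ := h
        omega
      have h2 : n + 1 = 2 * (n / 2 + 1) := by
        obtain ⟨k, hk⟩ := h
        omega
      have h3 : (q ^ 2) ^ (n / 2 + 1) = q ^ (n + 1) := by rw [← pow_mul, ← h2]
      rw [h1, if_neg (Nat.not_even_iff_odd.2 h), if_neg (Nat.not_even_iff_odd.2 h), Finset.prod_range_succ, h3]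
      ring

theorem ord_sq_odd {x : ZMod p} (h : Odd (orderOf (-x))) : orderOf (x ^ 2) = orderOf (-x) := by
  rw [← neg_sq x]
  exact Nat.Coprime.orderOf_pow h.coprime_two_right

theorem ord_sq_even {x : ZMod p} (hx : 0 < orderOf (-x)) (h : Even (orderOf (-x))) :
    2 * orderOf (x ^ 2) = orderOf (-x) := by
  rw [← neg_sq x, orderOf_pow_of_dvd two_ne_zero h.two_dvd]
  exact Nat.mul_div_cancel' h.two_dvd

theorem neg_ord_pos (hpq : ¬ p ∣ q) : 0 < orderOf (-(q : ZMod p)) :=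
  Nat.pos_of_dvd_of_pos (ZMod.orderOf_dvd_card_sub_one (neg_ne_zero.2 (cast_ne hpq)))
    (by have := hp.out.two_le; omega)

/-- the unitary groups, weight `< p ^ 2` -/
theorem dlLe_gu (hF : Fintype.card F = q ^ 2) (hp2 : p ≠ 2) (hpq : ¬ p ∣ q) {n : ℕ}
    (hw : n / orderOf (-(q : ZMod p)) < p ^ 2) : DlLe p 2 (GU n F q) := by
  have hpF : ¬ p ∣ Fintype.card F := by
    rw [hF]
    exact fun h => hpq (hp.out.dvd_of_dvd_pow h)
  have hcast : ((Fintype.card F : ℕ) : ZMod p) = (q : ZMod p) ^ 2 := by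
    rw [hF]
    push_cast
    rfl
  rcases Nat.even_or_odd (orderOf (-(q : ZMod p))) with he | he
  · have hord := ord_sq_even (neg_ord_pos hpq) he
    rw [← hord, ← Nat.div_div_eq_div_mul] at hw
    have hσ : ∀ a, ((conj hF : F ≃+* F) : F →+* F) (((conj hF : F ≃+* F) : F →+* F) a) = a := fun a =>
      pow_q_pow_q hF a
    set m := n / 2 with hm
    set ε := n - 2 * m with hε
    have hB := hform_sB hσ (conj_ne hF) (swp_swp m ε)
    have hfr : finrank F ((Fin m ⊕ Fin m) ⊕ Fin ε → F) = n := by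
      rw [finrank_pi, Fintype.card_sum, Fintype.card_sum, Fintype.card_fin, Fintype.card_fin]
      omega
    rw [← hfr]
    have hfin : Finite (IsoG (sB ((conj hF : F ≃+* F) : F →+* F) (swp m ε))) := by
      have : Finite ((Fin m ⊕ Fin m) ⊕ Fin ε → F) := inferInstance
      have h2 : Finite (((Fin m ⊕ Fin m) ⊕ Fin ε → F) ≃ₗ[F] ((Fin m ⊕ Fin m) ⊕ Fin ε → F)) :=
        Finite.of_injective (fun g => (g : ((Fin m ⊕ Fin m) ⊕ Fin ε → F) → ((Fin m ⊕ Fin m) ⊕ Fin ε → F)))
          DFunLike.coe_injective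
      infer_instance
    refine dlLe_gu_of hB hF (dlLe_card (thU m ε hσ) (thU_injective m ε hσ)
      (c := q ^ (n * (n - 1) / 2) * ∏ i ∈ Finset.range n, (if Even i then q ^ (i + 1) + 1 else 1)) ?_ ?_
      (dlLe_gl hpF (by rw [Fintype.card_fin, hcast]; exact hw)))
    · rw [hp.out.dvd_mul]
      rintro (h | h)
      · exact hpq (hp.out.dvd_of_dvd_pow h)
      · refine not_dvd_prod (fun i => ?_) h
        split_ifs with hi
        · intro h
          have h1 : ((q ^ (i + 1) + 1 : ℕ) : ZMod p) = 0 := (ZMod.natCast_eq_zero_iff _ _).2 h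
          push_cast at h1
          have h2 : (-(q : ZMod p)) ^ (i + 1) = 1 := by
            rw [(Even.add_one hi).neg_pow]
            linear_combination -h1
          have h3 := orderOf_dvd_of_pow_eq_one h2
          have h4 : 2 ∣ i + 1 := he.two_dvd.trans h3
          obtain ⟨k, hk⟩ := hi
          omega
        · exact fun h => hp.out.one_lt.ne' (Nat.dvd_one.1 h)
    · rw [card_isoG hB hF, hfr, Cfsg.Agent.S0277.result hF n, gu_split, mul_left_comm]
      have h1 := card_gl_dvd (F := F) m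
      rw [hF] at h1
      exact mul_dvd_mul h1 dvd_rfl
  · have hord := ord_sq_odd he
    refine dlLe_inj (GU n F q).subtype (Subgroup.subtype_injective _) (dlLe_gl hpF ?_)
    rw [Fintype.card_fin, hcast, hord]
    exact hw

theorem dlLe_psu (hF : Fintype.card F = q ^ 2) (hp2 : p ≠ 2) (hpq : ¬ p ∣ q) {n : ℕ}
    (hw : n / orderOf (-(q : ZMod p)) < p ^ 2) : DlLe p 2 (PSU n F q) := by
  have hfin : Finite (SU n F q) := inferInstance
  let f : SU n F q →* GU n F q :=
    { toFun := fun A => ⟨SpecialLinearGroup.toGL A.1, A.2⟩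
      map_one' := Subtype.ext (map_one SpecialLinearGroup.toGL)
      map_mul' := fun A B => Subtype.ext (map_mul SpecialLinearGroup.toGL A.1 B.1) }
  refine dlLe_surj (QuotientGroup.mk' _) (QuotientGroup.mk'_surjective _) (dlLe_inj f ?_ (dlLe_gu hF hp2 hpq hw))
  intro A B h
  apply Subtype.ext
  apply Subtype.ext
  exact congrArg (fun x : GU n F q => ((x : GL (Fin n) F) : Matrix (Fin n) (Fin n) F)) h

/-- `PSL` -/
theorem dlLe_psl (hpF : ¬ p ∣ Fintype.card F) {n : ℕ} (hw : n / orderOf (Fintype.card F : ZMod p) < p ^ 2) :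
    DlLe p 2 (ProjectiveSpecialLinearGroup (Fin n) F) := by
  refine dlLe_surj (QuotientGroup.mk' _) (QuotientGroup.mk'_surjective _)
    (dlLe_inj (SpecialLinearGroup.toGL (n := Fin n) (R := F)) ?_ (dlLe_gl hpF (by rw [Fintype.card_fin]; exact hw)))
  intro A B h
  apply Subtype.ext
  exact congrArg (fun x : GL (Fin n) F => (x : Matrix (Fin n) (Fin n) F)) h

end main

end Cfsg.Agent.H510.BD
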