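import Cfsg.Agent.H779.DP.PSU
import Cfsg.Agent.H131.ClassTwo

/-!
# `SL_v(F) ≤ PSU_n(q)` for `2 v < n`
-/

set_option autoImplicit false

namespace Cfsg.Agent.H510.BD

open Cfsg Module Matrix Cfsg.Agent.LieClassical.HermBasic Cfsg.Agent.LieClassical.HermSiegel Cfsg.Agent.H779.DP

universe u

theorem exists_levi_psu {F : Type u} [Field F] [Fintype F] {n q : ℕ} (hF : Fintype.card F = q ^ 2) {v : ℕ}
    (hv : 2 * v < n) :
    ∃ l : Matrix.SpecialLinearGroup (Fin v) F →* PSU n F q, Function.Injective l := by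
  rcases Nat.eq_zero_or_pos v with rfl | hv0
  · refine ⟨1, fun a b _ => ?_⟩
    apply Subtype.ext
    ext i
    exact i.elim0
  obtain ⟨e, f, E⟩ := exists_frm (F := F) (n := n) (d := v) hF (by omega)
  refine ⟨(QuotientGroup.mk' _).comp (lev hF E), ?_⟩
  rw [injective_iff_map_eq_one]
  intro M hM
  have h1 : lev hF E M ∈ Subgroup.center (SU n F q) := (QuotientGroup.eq_one_iff _).1 hM
  obtain ⟨c, -, hc⟩ := Cfsg.Agent.H131.ClassTwo.su_center hF (by omega) h1
  have hact : ∀ w : Fin n → F, act (lev hF E M) w = c • w := by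
    intro w
    rw [act_def]
    change (Cfsg.Agent.H131.ClassTwo.toU n F q (lev hF E M)) *ᵥ w = c • w
    rw [hc, smul_mulVec, one_mulVec]
  -- a nonzero vector orthogonal to the frame
  have hfr := finrank_Rp hF E
  obtain ⟨r, hr, hr0⟩ : ∃ r ∈ Rp q e f, r ≠ 0 := by
    rw [← Submodule.ne_bot_iff]
    intro h
    rw [h, finrank_bot] at hfr
    omega
  have h2 := act_lev_Rp hF E M hr
  rw [hact] at h2
  have hc1 : c = 1 := by
    have h3 : (c - 1) • r = 0 := by rw [sub_smul, h2, one_smul, sub_self]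
    rcases smul_eq_zero.1 h3 with h4 | h4
    · exact sub_eq_zero.1 h4
    · exact absurd h4 hr0
  have h3 : ∀ w : Fin v → F, M.1 *ᵥ w = w := by
    intro w
    have h4 := act_lev_cmb_e hF E M w
    rw [hact, hc1, one_smul] at h4
    exact (cmb_injective E h4).symm
  apply Subtype.ext
  ext i j
  have h5 := congrFun (h3 (Pi.single j 1)) i
  rw [Matrix.mulVec_single_one] at h5
  change M.1 i j = (1 : Matrix (Fin v) (Fin v) F) i j
  rw [Matrix.one_apply]
  have h6 : M.1 i j = (Pi.single j (1 : F) : Fin v → F) i := h5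
  rw [h6, Pi.single_apply]

end Cfsg.Agent.H510.BD
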