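import Cfsg.Agent.H510.BD.Dl
import Cfsg.Agent.H510.BD.DlU
import Cfsg.Agent.H585.BD.OutFam
import Cfsg.Agent.H315.Cov.No
import Cfsg.Agent.H315.Cov.Lin
import Cfsg.Agent.H315.Cov.Uni
import Cfsg.Agent.H315.Cov.Orth

/-!
# S4932, S4953: the TAME rows of the classical groups: `p` odd, coprime to the characteristic, weight `< p ^ 2` (helper510)
-/

set_option autoImplicit false

namespace Cfsg.Agent.H510.BD

open Cfsg Matrix Cfsg.Agent.H246.Dl Cfsg.Agent.H585.BD Cfsg.Agent.H589.BD Cfsg.Agent.H315.Cov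

universe u v

variable {p : ℕ} [hp : Fact p.Prime] {S : Type u} [Group S] [Finite S] [IsSimpleGroup S]
  {F : Type v} [Field F] [Fintype F]

omit hp [Finite S] [IsSimpleGroup S] in
theorem simple_of {X : Type v} [Group X] [IsSimpleGroup S] (e : S ≃* X) : IsSimpleGroup X :=
  e.symm.isSimpleGroup

omit hp [Finite S] [IsSimpleGroup S] in
theorem not_comm_of {X : Type v} [Group X] (hna : ¬ IsMulCommutative S) (e : S ≃* X) : ¬ IsMulCommutative X := by
  intro h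
  apply hna
  exact ⟨⟨fun a b => e.injective (by rw [map_mul, map_mul, h.is_comm.comm])⟩⟩

theorem tame_of (hna : ¬ IsMulCommutative S) (h1 : NoCover p S) (h2 : DlLe p 2 S) (h3 : OutAb p S) : Tame p S :=
  tame_two (center_simple hna) (covDl_of_noCover h1 h2) h3

/-- `PSL_n(q)`, `p ∤ gcd(n, q - 1)`, `n / e < p ^ 2` -/
theorem tame_psl (hna : ¬ IsMulCommutative S) (hp2 : p ≠ 2) (hpF : ¬ p ∣ Fintype.card F) {n : ℕ} (hn : 3 ≤ n)
    (hg : ¬ p ∣ Nat.gcd n (Fintype.card F - 1)) (hw : n / orderOf (Fintype.card F : ZMod p) < p ^ 2)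
    (e : S ≃* ProjectiveSpecialLinearGroup (Fin n) F) : Tame p S :=
  tame_of hna ((noMul_psl_odd hp.out hp2 n (by omega) (by omega) hg (by omega)).noCover_of_equiv e)
    ((dlLe_psl hpF hw).of_equiv e) (OutAb.congr e (outAb_psl hn hg))

/-- `PSU_n(q)`, `p ∤ gcd(n, q + 1)`, `n / d < p ^ 2` -/
theorem tame_psu (hna : ¬ IsMulCommutative S) (hp2 : p ≠ 2) {n q : ℕ} (hF : Fintype.card F = q ^ 2) (hpq : ¬ p ∣ q)
    (hn : 3 ≤ n) (h32 : ¬ (n = 3 ∧ q = 2)) (hg : ¬ p ∣ Nat.gcd n (q + 1))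
    (hw : n / orderOf (-(q : ZMod p)) < p ^ 2) (e : S ≃* PSU n F q) : Tame p S :=
  tame_of hna ((noMul_psu_odd hp.out hp2 n q hF hn h32 hg (by
      rintro ⟨rfl, -, rfl⟩
      exact hpq dvd_rfl)).noCover_of_equiv e)
    ((dlLe_psu hF hp2 hpq hw).of_equiv e)
    (OutAb.congr e (outAb_psu hF hn h32 fun h => hg ((dvd_pow_self p two_ne_zero).trans h)))

/-- `PSp_{2m}(q)`, weight `< p ^ 2` -/
theorem tame_psp (hna : ¬ IsMulCommutative S) (hp2 : p ≠ 2) (hpF : ¬ p ∣ Fintype.card F) {m : ℕ} (hm : 2 ≤ m)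
    (hm2 : m = 2 → 3 ≤ Fintype.card F) (hw : 2 * m / Nat.lcm 2 (orderOf (Fintype.card F : ZMod p)) < p ^ 2)
    (e : S ≃* PSp m F) : Tame p S := by
  have hs : IsSimpleGroup (PSp m F) := simple_of e
  exact tame_of hna ((noMul_psp_odd hp.out hp2 m hm hm2).noCover_of_equiv e)
    ((dlLe_psp hp2 hpF hw).of_equiv e) (OutAb.congr e (outAb_psp hm hm2 (not_comm_of hna e)))

/-- `PΩ_{2m+1}(q)`, weight `< p ^ 2` -/
theorem tame_pomegaOdd (hna : ¬ IsMulCommutative S) (hp2 : p ≠ 2) (hpF : ¬ p ∣ Fintype.card F) {m : ℕ} (hm : 3 ≤ m)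
    (hodd : Odd (Fintype.card F)) (hw : 2 * m / Nat.lcm 2 (orderOf (Fintype.card F : ZMod p)) < p ^ 2)
    (e : S ≃* POmega F (quadFormOdd m F)) : Tame p S :=
  tame_of hna ((noMul_omegaOdd hp.out hp2 m hm hodd (by
      rintro ⟨rfl, -, h⟩
      exact hpF h.symm.dvd)).noCover_of_equiv e)
    ((dlLe_pomega (dlLe_odd hp2 hpF hodd hw)).of_equiv e) (OutAb.congr e (outAb_pomegaOdd hm hodd))

/-- `PΩ⁺_{2m}(q)`, weight `< p ^ 2` -/
theorem tame_pomegaPlus (hna : ¬ IsMulCommutative S) (hp2 : p ≠ 2) (hpF : ¬ p ∣ Fintype.card F) {m : ℕ} (hm : 4 ≤ m)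
    (hw1 : Odd (orderOf (Fintype.card F : ZMod p)) → m / orderOf (Fintype.card F : ZMod p) < p ^ 2)
    (hw2 : Even (orderOf (Fintype.card F : ZMod p)) → 2 * m / orderOf (Fintype.card F : ZMod p) < p ^ 2 ∨
      2 * m = orderOf (Fintype.card F : ZMod p) * p ^ 2)
    (e : S ≃* POmega F (quadFormPlus m F)) : Tame p S := by
  refine tame_of hna ((noMul_omegaPlus_odd hp.out hp2 m hm).noCover_of_equiv e)
    ((dlLe_pomega ?_).of_equiv e) (OutAb.congr e (outAb_pomegaPlus hp2 hm))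
  rcases Nat.even_or_odd (orderOf (Fintype.card F : ZMod p)) with he | he
  · rcases hw2 he with h | h
    · apply dlLe_isoMat hpF
      rw [Fintype.card_sum, Fintype.card_fin, ← two_mul]
      exact h
    · exact dlLe_plus_bd hp2 hpF (by omega) he h
  · exact dlLe_plus_odd hp2 hpF (by omega) he (hw1 he)

/-- `PΩ⁻_{2m}(q)`, weight `< p ^ 2` -/
theorem tame_pomegaMinus (hna : ¬ IsMulCommutative S) (hp2 : p ≠ 2) (hpF : ¬ p ∣ Fintype.card F) {m : ℕ} (hm : 4 ≤ m)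
    (a b : F) (hab : ∀ z₁ z₂ : F, z₁ ^ 2 + a * z₁ * z₂ + b * z₂ ^ 2 = 0 → z₁ = 0 ∧ z₂ = 0)
    (hw1 : Odd (orderOf (Fintype.card F : ZMod p)) → (m - 1) / orderOf (Fintype.card F : ZMod p) < p ^ 2)
    (hw2 : Even (orderOf (Fintype.card F : ZMod p)) → 2 * m / orderOf (Fintype.card F : ZMod p) < p ^ 2)
    (e : S ≃* POmega F (quadFormMinus (m - 1) F a b)) : Tame p S :=
  tame_of hna ((noMul_omegaMinus_odd hp.out hp2 m hm a b hab).noCover_of_equiv e)
    ((dlLe_pomega (dlLe_minus hp2 hpF (by omega) a b hab hw1 hw2)).of_equiv e)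
    (OutAb.congr e (outAb_pomegaMinus hp2 hm a b hab))

end Cfsg.Agent.H510.BD
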